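import Mathlib.AlgebraicGeometry.Morphisms.ClosedImmersion
import Mathlib.AlgebraicGeometry.Morphisms.QuasiCompact
import Mathlib.AlgebraicGeometry.Limits
import Mathlib.AlgebraicGeometry.IdealSheaf.Functorial

/-!
# Closed immersions and lifting along injective ring maps
-/

universe u

set_option autoImplicit false
set_option backward.isDefEq.respectTransparency false

open AlgebraicGeometry CategoryTheory Limits

namespace Groth.Agent.FlatMorLift

/-- Morphisms lift along injective ring maps. -/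
def LiftProp {X Y : Scheme.{u}} (f : X ⟶ Y) : Prop :=
  ∀ (A B : Type u) [CommRing A] [CommRing B] (φ : A →+* B), Function.Injective φ →
    ∀ (a : Spec (CommRingCat.of B) ⟶ X) (b : Spec (CommRingCat.of A) ⟶ Y),
      Spec.map (CommRingCat.ofHom φ) ≫ b = a ≫ f →
      ∃ l : Spec (CommRingCat.of A) ⟶ X, Spec.map (CommRingCat.ofHom φ) ≫ l = a ∧ l ≫ f = b

theorem liftProp_morphismRestrict {X Y : Scheme.{u}} {f : X ⟶ Y} (h : LiftProp f) (U : Y.Opens) :
    LiftProp (f ∣_ U) := by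
  intro A B _ _ φ hφ a b w
  obtain ⟨l, h1, h2⟩ := h A B φ hφ (a ≫ (f ⁻¹ᵁ U).ι) (b ≫ U.ι)
    (by rw [reassoc_of% w, morphismRestrict_ι, Category.assoc])
  have hl : IsPullback (f ⁻¹ᵁ U).ι (f ∣_ U) f U.ι := (isPullback_morphismRestrict f U).flip
  refine ⟨hl.lift l b h2, ?_, hl.lift_snd _ _ _⟩
  rw [← cancel_mono (f ⁻¹ᵁ U).ι, Category.assoc, hl.lift_fst, h1]

theorem ker_SpecMap_of_injective {A B : Type u} [CommRing A] [CommRing B] (φ : A →+* B)
    (hφ : Function.Injective φ) : (Spec.map (CommRingCat.ofHom φ)).ker = ⊥ := by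
  have hinj : Function.Injective (Spec.map (CommRingCat.ofHom φ)).appTop.hom := by
    have h : (Spec.map (CommRingCat.ofHom φ)).appTop =
        (Scheme.ΓSpecIso _).hom ≫ CommRingCat.ofHom φ ≫ (Scheme.ΓSpecIso _).inv := by
      rw [← Category.assoc, Iso.eq_comp_inv, Scheme.ΓSpecIso_naturality]
    rw [h]
    exact (ConcreteCategory.bijective_of_isIso (Scheme.ΓSpecIso (CommRingCat.of B)).inv).1.comp
      (hφ.comp (ConcreteCategory.bijective_of_isIso (Scheme.ΓSpecIso (CommRingCat.of A)).hom).1)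
  rw [Scheme.ker_of_isAffine, (RingHom.injective_iff_ker_eq_bot _).1 hinj]
  exact le_bot_iff.1 (fun V => by simp [Scheme.IdealSheafData.ofIdealTop])

theorem liftProp_of_isClosedImmersion {X Y : Scheme.{u}} (f : X ⟶ Y) [IsClosedImmersion f] :
    LiftProp f := by
  intro A B _ _ φ hφ a b w
  have H : f.ker ≤ b.ker := by
    refine (a.le_ker_comp f).trans ?_
    rw [← w, Scheme.Hom.ker_comp, ker_SpecMap_of_injective φ hφ, Scheme.IdealSheafData.map_bot]
  refine ⟨IsClosedImmersion.lift f b H, ?_, IsClosedImmersion.lift_fac _ _ _⟩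
  rw [← cancel_mono f, Category.assoc, IsClosedImmersion.lift_fac, w]

theorem isClosedImmersion_of_liftProp_affine {X Y : Scheme.{u}} [IsAffine Y] [CompactSpace X]
    (f : X ⟶ Y) (h : LiftProp f) : IsClosedImmersion f := by
  let 𝒰 := X.affineCover.finiteSubcover
  have : ∀ i, IsAffine (𝒰.X i) := fun i => inferInstanceAs (IsAffine (X.affineCover.X _))
  let W := ∐ 𝒰.X
  let p : W ⟶ X := Sigma.desc 𝒰.f
  let I : Ideal Γ(Y, ⊤) := RingHom.ker f.appTop.hom
  let ψ : Γ(Y, ⊤) ⧸ I →+* Γ(X, ⊤) := Ideal.Quotient.lift I f.appTop.hom fun _ h => h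
  have hp : Function.Injective p.appTop.hom := by
    intro s t hst
    refine TopCat.Sheaf.eq_of_locally_eq' X.sheaf (fun i => 𝒰.f i ''ᵁ ⊤) ⊤
      (fun i => homOfLE le_top)
      (by simp only [Scheme.Hom.image_top_eq_opensRange]; rw [𝒰.iSup_opensRange]) s t fun i => ?_
    have h1 := congrArg (Sigma.ι 𝒰.X i).appTop.hom hst
    have e : p.appTop ≫ (Sigma.ι 𝒰.X i).appTop = (𝒰.f i).appTop := by
      simp only [← Scheme.Hom.comp_appTop, p, Sigma.ι_desc]
    change (p.appTop ≫ (Sigma.ι 𝒰.X i).appTop).hom s =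
      (p.appTop ≫ (Sigma.ι 𝒰.X i).appTop).hom t at h1
    rw [e] at h1
    apply (ConcreteCategory.bijective_of_isIso ((𝒰.f i).appIso ⊤).hom).1
    show ((X.presheaf.map (homOfLE le_top).op) ≫ ((𝒰.f i).appIso ⊤).hom) s =
      ((X.presheaf.map (homOfLE le_top).op) ≫ ((𝒰.f i).appIso ⊤).hom) t
    simp only [Scheme.Hom.appIso_hom', Scheme.Hom.map_appLE]
    simpa [Scheme.Hom.appTop, Scheme.Hom.app_eq_appLE] using h1
  let A := Γ(Y, ⊤) ⧸ I
  let φ : A →+* Γ(W, ⊤) := p.appTop.hom.comp ψ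
  have hφ : Function.Injective φ := hp.comp ((injective_iff_map_eq_zero ψ).2 fun x hx => by
    obtain ⟨x, rfl⟩ := Ideal.Quotient.mk_surjective x
    exact Ideal.Quotient.eq_zero_iff_mem.2 hx)
  let b : Spec (CommRingCat.of A) ⟶ Y :=
    Spec.map (CommRingCat.ofHom (Ideal.Quotient.mk I)) ≫ Y.isoSpec.inv
  have hb : IsClosedImmersion b := by
    have := IsClosedImmersion.spec_of_surjective (CommRingCat.ofHom (Ideal.Quotient.mk I))
      Ideal.Quotient.mk_surjective
    exact inferInstanceAs (IsClosedImmersion (_ ≫ _))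
  let g : X ⟶ Spec (CommRingCat.of A) := X.toSpecΓ ≫ Spec.map (CommRingCat.ofHom ψ)
  have hg : g ≫ b = f := by
    have : CommRingCat.ofHom (Ideal.Quotient.mk I) ≫ CommRingCat.ofHom ψ = f.appTop :=
      CommRingCat.hom_ext (Ideal.Quotient.lift_comp_mk _ _ _)
    simp only [g, b, Category.assoc]
    rw [← Spec.map_comp_assoc, this, ← Category.assoc, ← Scheme.toSpecΓ_naturality,
      Category.assoc, Scheme.toSpecΓ_isoSpec_inv, Category.comp_id]
  have hpg : W.isoSpec.inv ≫ p ≫ g = Spec.map (CommRingCat.ofHom φ) := by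
    rw [Iso.inv_comp_eq]
    simp only [g]
    rw [Scheme.toSpecΓ_naturality_assoc, ← Spec.map_comp, Scheme.isoSpec_hom]
    rfl
  obtain ⟨l, h1, h2⟩ := h A Γ(W, ⊤) φ hφ (W.isoSpec.inv ≫ p) b
    (by
      rw [← hpg]
      conv_rhs => rw [← hg]
      simp only [Category.assoc])
  have hgl : g ≫ l = 𝟙 X := by
    refine 𝒰.hom_ext _ _ fun i => ?_
    have : p ≫ g ≫ l = p := by
      rw [← cancel_epi W.isoSpec.inv]
      calc W.isoSpec.inv ≫ p ≫ g ≫ l = (W.isoSpec.inv ≫ p ≫ g) ≫ l := by simp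
        _ = W.isoSpec.inv ≫ p := by rw [hpg, h1]
    simpa [p] using congrArg (Sigma.ι 𝒰.X i ≫ ·) this
  have hlg : l ≫ g = 𝟙 _ := by rw [← cancel_mono b, Category.assoc, hg, h2, Category.id_comp]
  have : IsIso g := ⟨l, hgl, hlg⟩
  rw [← hg]
  infer_instance

theorem isClosedImmersion_iff_liftProp {X Y : Scheme.{u}} (f : X ⟶ Y) [QuasiCompact f] :
    IsClosedImmersion f ↔ LiftProp f := by
  refine ⟨fun _ => liftProp_of_isClosedImmersion f, fun h => ?_⟩
  rw [IsZariskiLocalAtTarget.iff_of_iSup_eq_top (P := @IsClosedImmersion) _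
    (iSup_affineOpens_eq_top Y)]
  intro U
  have : IsAffine U.1.toScheme := U.2
  have : CompactSpace (f ⁻¹ᵁ U.1) := isCompact_iff_compactSpace.1
    (QuasiCompact.isCompact_preimage _ U.1.isOpen U.2.isCompact)
  exact isClosedImmersion_of_liftProp_affine (f ∣_ U.1) (liftProp_morphismRestrict h U.1)

end Groth.Agent.FlatMorLift
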